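import Mathlib.GroupTheory.IsSubnormal
import Mathlib.GroupTheory.Index
import Mathlib.GroupTheory.PGroup
import Mathlib.Algebra.Group.Subgroup.Pointwise
import Mathlib.Order.Atoms.Finite
import Mathlib.GroupTheory.Frattini
import Mathlib.GroupTheory.Nilpotent
import Mathlib.Data.Fintype.Order

/-!
# Joins of subnormal subgroups and Wielandt's zipper lemma
-/

set_option autoImplicit false

namespace Cfsg.Lib.Subnormal

open Subgroup

universe u

variable {G : Type u} [Group G]

theorem isSubnormal_conj {H : Subgroup G} (h : H.IsSubnormal) (g : G) :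
    (H.map (MulAut.conj g).toMonoidHom).IsSubnormal :=
  h.map (f := (MulAut.conj g).toMonoidHom) (MulAut.conj g).surjective

theorem isSubnormal_sup_of_normal {N T : Subgroup G} [N.Normal] (hT : T.IsSubnormal) :
    (N ⊔ T).IsSubnormal := by
  have h := (hT.map (f := QuotientGroup.mk' N) (QuotientGroup.mk'_surjective N)).comap (QuotientGroup.mk' N)
  rwa [comap_map_eq, QuotientGroup.ker_mk', sup_comm] at h

/-- Conjugation stability of a subgroup generated by conjugates. -/
theorem normalClosure_le_of_sup_eq_top {S T K : Subgroup G} (hST : T ≤ normalizer (S : Set G))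
    (hSK : S ≤ K) (hKT : K ⊔ T = ⊤) (hn : (S.subgroupOf K).Normal) : S.Normal := by
  rw [← normalizer_eq_top_iff, eq_top_iff, ← hKT]
  exact sup_le ((normal_subgroupOf_iff_le_normalizer hSK).mp hn) hST

/-- If `T` normalizes `S` and both are subnormal, then so is `S ⊔ T`. -/
theorem isSubnormal_sup [Finite G] {S T : Subgroup G} (hS : S.IsSubnormal) (hT : T.IsSubnormal)
    (hST : T ≤ normalizer (S : Set G)) : (S ⊔ T).IsSubnormal := by
  induction hn : Nat.card G using Nat.strong_induction_on generalizing G with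
  | h n ih =>
  subst hn
  by_cases hSn : S.Normal
  · exact isSubnormal_sup_of_normal hT
  have hSne : S ≠ ⊤ := fun h => hSn (h ▸ inferInstance)
  set K := normalClosure (S : Set G) with hK
  have hKn : K.Normal := normalClosure_normal
  have hSK : S ≤ K := le_normalClosure
  have hKne : K ≠ ⊤ := by
    rcases hS.lt_normal with h | ⟨L, hL, hSL, hLlt⟩
    · exact absurd h hSne
    · intro h
      have : K ≤ L := normalClosure_le_normal hSL
      exact hLlt.ne (top_le_iff.mp (h ▸ this))
  have hL : (K ⊔ T).IsSubnormal := isSubnormal_sup_of_normal hT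
  by_cases htop : K ⊔ T = ⊤
  · -- the conjugates of `S` already come from `K`
    exfalso
    have hlt : Nat.card K < Nat.card G := by
      refine lt_of_le_of_ne K.card_le_card_group fun h => hKne (eq_top_of_card_eq K h)
    set S' := S.subgroupOf K
    have hS' : S'.IsSubnormal := hS.subgroupOf
    rcases hS'.lt_normal with h | ⟨L, hLn, hSL, hLlt⟩
    · exact hSn (normalClosure_le_of_sup_eq_top hST hSK htop (by
        rw [show S.subgroupOf K = ⊤ from h]; infer_instance))
    · refine hLlt.ne (top_le_iff.mp ?_)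
      -- every conjugate of `S` lies in `L`
      intro k _
      have hgen : normalClosure (S : Set G) ≤ L.map K.subtype := by
        rw [normalClosure]
        refine (closure_le _).mpr fun y hy => ?_
        obtain ⟨s, hs, hc⟩ := Group.mem_conjugatesOfSet_iff.mp hy
        obtain ⟨g, rfl⟩ := isConj_iff.mp hc
        obtain ⟨a, ha, t, ht, rfl⟩ := Subgroup.mem_sup_of_normal_left.mp (htop.symm ▸ mem_top g)
        have hts : t * s * t⁻¹ ∈ S := (mem_normalizer_iff.mp (hST ht) s).mp hs
        exact ⟨⟨a, ha⟩ * ⟨t * s * t⁻¹, hSK hts⟩ * ⟨a, ha⟩⁻¹,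
          hLn.conj_mem _ (hSL (mem_subgroupOf.mpr hts)) _, by simp [mul_assoc]⟩
      obtain ⟨l, hl, hlk⟩ := hgen k.2
      exact Subtype.ext hlk ▸ hl
  · have hlt : Nat.card ↥(K ⊔ T) < Nat.card G := by
      refine lt_of_le_of_ne (K ⊔ T).card_le_card_group fun h => htop (eq_top_of_card_eq _ h)
    have h1 : ((S.subgroupOf (K ⊔ T)) ⊔ (T.subgroupOf (K ⊔ T))).IsSubnormal := by
      refine ih _ hlt hS.subgroupOf hT.subgroupOf ?_ rfl
      intro t ht
      rw [mem_normalizer_iff]
      intro x
      simp only [mem_subgroupOf, coe_mul, coe_inv]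
      exact mem_normalizer_iff.mp (hST ht) x
    rw [← subgroupOf_sup (hSK.trans le_sup_left) le_sup_right] at h1
    exact h1.trans (sup_le (hSK.trans le_sup_left) le_sup_right) hL

/-- Transporting subnormality in a subgroup along conjugation. -/
theorem isSubnormal_subgroupOf_conj {A H : Subgroup G} (g : G)
    (h : (A.subgroupOf (H.map (MulAut.conj g⁻¹).toMonoidHom)).IsSubnormal) :
    ((A.map (MulAut.conj g).toMonoidHom).subgroupOf H).IsSubnormal := by
  let f : H →* ↥(H.map (MulAut.conj g⁻¹).toMonoidHom) :=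
    ((MulAut.conj g⁻¹).toMonoidHom.comp H.subtype).codRestrict _ fun x => ⟨x, x.2, rfl⟩
  have h1 := h.comap f
  have heq : (A.map (MulAut.conj g).toMonoidHom).subgroupOf H =
      (A.subgroupOf (H.map (MulAut.conj g⁻¹).toMonoidHom)).comap f := by
    ext x
    simp only [mem_comap, mem_subgroupOf, mem_map]
    constructor
    · rintro ⟨a, ha, hax⟩
      show g⁻¹ * (x : G) * (g⁻¹)⁻¹ ∈ A
      rw [← hax]; simpa [mul_assoc] using ha
    · intro hx
      exact ⟨g⁻¹ * (x : G) * (g⁻¹)⁻¹, hx, by simp [mul_assoc]⟩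
  rwa [heq]

/-- Wielandt's zipper lemma. -/
theorem zipper [Finite G] (A : Subgroup G) (hA : ¬ A.IsSubnormal)
    (h : ∀ H : Subgroup G, H ≠ ⊤ → A ≤ H → (A.subgroupOf H).IsSubnormal) :
    ∃! M : Subgroup G, IsCoatom M ∧ A ≤ M := by
  induction A using WellFoundedGT.induction with
  | _ A ih =>
  have hN : normalizer (A : Set G) ≠ ⊤ := fun hN =>
    hA (Subgroup.Normal.isSubnormal (normalizer_eq_top_iff.mp hN))
  obtain ⟨M, hM, hNM⟩ := (eq_top_or_exists_le_coatom _).resolve_left hN
  refine ⟨M, ⟨hM, le_normalizer.trans hNM⟩, ?_⟩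
  rintro K ⟨hK, hAK⟩
  by_contra hne
  -- some element of `K` outside the normalizer of `A`
  have hKN : ¬ K ≤ normalizer (A : Set G) := fun hle =>
    hne ((hK.le_iff.mp (hle.trans hNM)).resolve_left hM.1).symm
  obtain ⟨n, C, hCmono, hCn, hC0, hCtop⟩ := Subgroup.IsSubnormal.isSubnormal_iff.mp (h K hK.1 hAK)
  have hex : ∃ i, ¬ (C i).map K.subtype ≤ normalizer (A : Set G) := by
    refine ⟨n, fun hle => hKN ?_⟩
    rwa [hCtop, ← MonoidHom.range_eq_map, range_subtype] at hle
  classical
  obtain ⟨i, hi, hmin⟩ : ∃ i, ¬ (C i).map K.subtype ≤ normalizer (A : Set G) ∧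
      ∀ j < i, (C j).map K.subtype ≤ normalizer (A : Set G) :=
    ⟨Nat.find hex, Nat.find_spec hex, fun j hj => not_not.mp (Nat.find_min hex hj)⟩
  have hi0 : i ≠ 0 := by
    rintro rfl
    refine hi ?_
    rw [hC0, map_subgroupOf_eq_of_le hAK]
    exact le_normalizer
  obtain ⟨j, rfl⟩ : ∃ j, i = j + 1 := ⟨i - 1, by omega⟩
  obtain ⟨_, ⟨x, hx, rfl⟩, hxN⟩ := SetLike.not_le_iff_exists.mp hi
  set B := (C j).map K.subtype
  have hBN : B ≤ normalizer (A : Set G) := hmin j (Nat.lt_succ_self j)
  have hAB : A ≤ B := fun a ha =>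
    ⟨⟨a, hAK ha⟩, hCmono (Nat.zero_le j) (hC0.symm ▸ mem_subgroupOf.mpr ha), rfl⟩
  set A' := A.map (MulAut.conj (x : G)).toMonoidHom
  have hA'B : A' ≤ B := by
    rintro _ ⟨a, ha, rfl⟩
    obtain ⟨b, hb, rfl⟩ := hAB ha
    have h1 := (normal_subgroupOf_iff_le_normalizer (hCmono (Nat.le_succ j))).mp (hCn j) hx
    exact ⟨x * b * x⁻¹, (mem_normalizer_iff.mp h1 b).mp hb, rfl⟩
  have hA'ne : ¬ A' ≤ A := fun hle => hxN (mem_normalizer_iff_map_conj_eq.mpr
    (eq_of_le_of_card_ge hle (card_map_of_injective (MulAut.conj (x : G)).injective).ge))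
  set T := A ⊔ A' with hT
  have hTN : T ≤ normalizer (A : Set G) := sup_le le_normalizer (hA'B.trans hBN)
  have hTK : T ≤ K := sup_le hAK (hA'B.trans (map_subtype_le _))
  have hTlt : A < T := lt_of_le_of_ne le_sup_left fun he => hA'ne (by
    have h2 : A' ≤ T := le_sup_right
    rwa [← he] at h2)
  have hTns : ¬ T.IsSubnormal := fun hsn => hA (Subgroup.IsSubnormal.trans le_sup_left
    ((normal_subgroupOf_iff_le_normalizer le_sup_left).mpr hTN).isSubnormal hsn)
  have hTh : ∀ H : Subgroup G, H ≠ ⊤ → T ≤ H → (T.subgroupOf H).IsSubnormal := by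
    intro H hH hTH
    have h1 := h H hH (le_sup_left.trans hTH)
    have hne' : H.map (MulAut.conj (x : G)⁻¹).toMonoidHom ≠ ⊤ := fun he => hH (by
      refine eq_top_of_card_eq H ?_
      rw [← card_map_of_injective (f := (MulAut.conj (x : G)⁻¹).toMonoidHom) (MulAut.conj (x : G)⁻¹).injective,
        he, card_top])
    have h2 : (A'.subgroupOf H).IsSubnormal := isSubnormal_subgroupOf_conj (x : G) (h _ hne' (by
      intro a ha
      exact ⟨(x : G) * a * (x : G)⁻¹, hTH (mem_sup_right ⟨a, ha, rfl⟩), by simp [mul_assoc]⟩))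
    have h3 := isSubnormal_sup h1 h2 (by
      intro t ht
      rw [mem_normalizer_iff]
      intro y
      simp only [mem_subgroupOf, coe_mul, coe_inv]
      exact mem_normalizer_iff.mp (hBN (hA'B ht)) y)
    rwa [← subgroupOf_sup (le_sup_left.trans hTH) (le_sup_right.trans hTH)] at h3
  exact hne ((ih T hTlt hTns hTh).unique ⟨hK, hTK⟩ ⟨hM, hTN.trans hNM⟩)

end Cfsg.Lib.Subnormal
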