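import Cfsg.Agent.Lib.Solv.SubnormalJoin
import Cfsg.Agent.Lib.Local.YMinimal

/-!
A strengthened zipper lemma: if the proper subgroups `H` containing `A` and generated by their own
conjugates of `A` do not generate the group, then `A` lies in a unique maximal subgroup.
-/

set_option autoImplicit false

namespace Cfsg.Lib.Subnormal

open Subgroup

universe u

variable {G : Type u} [Group G]

/-- `H` is the normal closure of `A` in itself. -/
def ClosedOver (A H : Subgroup G) : Prop :=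
  A ≤ H ∧ ∀ N : Subgroup G, A ≤ N → N ≤ H → H ≤ normalizer (N : Set G) → H ≤ N

theorem closedOver_refl (A : Subgroup G) : ClosedOver A A := ⟨le_rfl, fun _ h _ _ => h⟩

theorem closedOver_iff {A H : Subgroup G} :
    ClosedOver A H ↔ A ≤ H ∧ normalClosure ((A.subgroupOf H : Subgroup H) : Set H) = ⊤ := by
  constructor
  · rintro ⟨hAH, h⟩
    refine ⟨hAH, eq_top_iff.2 fun x _ => ?_⟩
    set K := normalClosure ((A.subgroupOf H : Subgroup H) : Set H)
    obtain ⟨y, hy, hyx⟩ := h (K.map H.subtype)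
      (fun a ha => ⟨⟨a, hAH ha⟩, subset_normalClosure ha, rfl⟩) (map_subtype_le _)
      (by
        refine le_trans (le_of_eq ?_) (le_normalizer_map H.subtype)
        rw [normalizer_eq_top_iff.2 normalClosure_normal, ← MonoidHom.range_eq_map, range_subtype]) x.2
    rwa [← Subtype.ext hyx]
  · rintro ⟨hAH, h⟩
    refine ⟨hAH, fun N hAN hNH hHN x hx => ?_⟩
    have hn : (N.subgroupOf H).Normal := (normal_subgroupOf_iff_le_normalizer hNH).2 hHN
    have := normalClosure_le_normal (N := N.subgroupOf H) (s := ((A.subgroupOf H : Subgroup H) : Set H))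
      (fun a ha => hAN ha)
    rw [h] at this
    exact this (mem_top (⟨x, hx⟩ : H))

theorem ClosedOver.trans {A H X : Subgroup G} (h1 : ClosedOver A H) (h2 : ClosedOver H X) : ClosedOver A X := by
  refine ⟨h1.1.trans h2.1, fun N hAN hNX hXN => h2.2 N ?_ hNX hXN⟩
  refine le_trans (h1.2 (N ⊓ H) (le_inf hAN h1.1) inf_le_right fun x hx => ?_) inf_le_left
  have hxN := mem_normalizer_iff.1 (hXN (h2.1 hx))
  refine mem_normalizer_iff.2 fun y => ?_
  rw [mem_inf, mem_inf, hxN y]
  refine and_congr_right fun _ => ?_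
  rw [mul_mem_cancel_right (inv_mem hx), mul_mem_cancel_left hx]

/-- A subnormal subgroup generating its overgroup by conjugates is the whole overgroup. -/
theorem ClosedOver.eq_of_isSubnormal {A H : Subgroup G} (h : ClosedOver A H)
    (hsn : (A.subgroupOf H).IsSubnormal) : H = A := by
  refine le_antisymm ?_ h.1
  rcases hsn.lt_normal with h1 | ⟨K, hK, hAK, hlt⟩
  · exact fun x hx => by
      have : (⟨x, hx⟩ : H) ∈ A.subgroupOf H := h1 ▸ mem_top _
      exact this
  · refine absurd ?_ hlt.ne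
    rw [eq_top_iff]
    intro x _
    obtain ⟨y, hy, hyx⟩ := h.2 (K.map H.subtype)
      (fun a ha => ⟨⟨a, h.1 ha⟩, hAK (mem_subgroupOf.2 ha), rfl⟩) (map_subtype_le _)
      (by
        refine le_trans (le_of_eq ?_) (le_normalizer_map H.subtype)
        rw [normalizer_eq_top_iff.2 hK, ← MonoidHom.range_eq_map, range_subtype]) x.2
    rwa [← Subtype.ext hyx]

/-- A non-normal subnormal subgroup has a different conjugate normalizing it. -/
theorem exists_conj_le_normalizer [Finite G] {S : Subgroup G} (hS : S.IsSubnormal) (hn : ¬ S.Normal) :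
    ∃ x : G, S.map (MulAut.conj x).toMonoidHom ≠ S ∧
      S.map (MulAut.conj x).toMonoidHom ≤ normalizer (S : Set G) := by
  classical
  obtain ⟨n, C, hC, hCn, hC0, hCtop⟩ := IsSubnormal.isSubnormal_iff.1 hS
  have hex : ∃ i, ¬ C i ≤ normalizer (S : Set G) :=
    ⟨n, fun hle => hn (normalizer_eq_top_iff.1 (top_le_iff.1 (hCtop ▸ hle)))⟩
  have hi0 : Nat.find hex ≠ 0 := fun e => Nat.find_spec hex (by rw [e, hC0]; exact le_normalizer)
  obtain ⟨j, hj⟩ := Nat.exists_eq_succ_of_ne_zero hi0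
  have hi := Nat.find_spec hex
  rw [hj] at hi
  obtain ⟨x, hx, hxN⟩ := SetLike.not_le_iff_exists.1 hi
  refine ⟨x, fun e => hxN (mem_normalizer_iff_map_conj_eq.2 e), ?_⟩
  refine le_trans ?_ (not_not.1 (Nat.find_min hex (m := j) (by omega)))
  rintro _ ⟨a, ha, rfl⟩
  have h1 := (normal_subgroupOf_iff_le_normalizer (hC (Nat.le_succ j))).1 (hCn j) hx
  exact (mem_normalizer_iff.1 h1 a).1 (hC (Nat.zero_le j) (hC0.symm ▸ ha))

section Conj

/-- Conjugate of a subgroup. -/
def cj (g : G) (A : Subgroup G) : Subgroup G := A.map (MulAut.conj g).toMonoidHom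

theorem cj_mono (g : G) {A B : Subgroup G} (h : A ≤ B) : cj g A ≤ cj g B := map_mono h

theorem cj_cj (g h : G) (A : Subgroup G) : cj g (cj h A) = cj (g * h) A := by
  rw [cj, cj, cj, map_map]
  congr 1
  ext y
  simp [mul_assoc]

theorem cj_one (A : Subgroup G) : cj 1 A = A := by
  rw [cj]
  convert map_id A using 2
  ext y
  simp

theorem cj_inv_cj (g : G) (A : Subgroup G) : cj g⁻¹ (cj g A) = A := by rw [cj_cj, inv_mul_cancel, cj_one]

theorem cj_cj_inv (g : G) (A : Subgroup G) : cj g (cj g⁻¹ A) = A := by rw [cj_cj, mul_inv_cancel, cj_one]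

theorem cj_injective (g : G) : Function.Injective (cj g : Subgroup G → Subgroup G) := fun A B h => by
  rw [← cj_inv_cj g A, h, cj_inv_cj]

theorem cj_eq_of_mem {P : Subgroup G} {g : G} (h : g ∈ P) : cj g P = P :=
  mem_normalizer_iff_map_conj_eq.1 (le_normalizer h)

theorem isCoatom_cj (g : G) {P : Subgroup G} (h : IsCoatom P) : IsCoatom (cj g P) :=
  ((MulAut.conj g).mapSubgroup.isCoatom_iff P).2 h

theorem cj_top (g : G) : cj g (⊤ : Subgroup G) = ⊤ := map_top_of_surjective _ (MulAut.conj g).surjective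

theorem le_normalizer_of_forall {B : Subgroup G} [Finite G] {X : Subgroup G} (h : ∀ x ∈ X, cj x B ≤ B) :
    X ≤ normalizer (B : Set G) := fun x hx =>
  mem_normalizer_iff_map_conj_eq.2 (eq_of_le_of_card_ge (h x hx)
    (card_map_of_injective (MulAut.conj x).injective).ge)

theorem mem_of_cj_eq [Finite G] {P : Subgroup G} (hP : IsCoatom P) {A : Subgroup G} (hAP : A ≤ P)
    (hA : normalClosure (A : Set G) = ⊤) {g : G} (h : cj g P = P) : g ∈ P := by
  have hne : normalizer (P : Set G) ≠ ⊤ := fun ht => hP.1 (by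
    have := normalizer_eq_top_iff.1 ht
    exact top_le_iff.1 (hA ▸ normalClosure_le_normal hAP))
  rcases hP.le_iff.1 (le_normalizer (H := P)) with h1 | h1
  · exact absurd h1 hne
  · exact h1 ▸ mem_normalizer_iff_map_conj_eq.2 h

theorem normalClosure_cj {A : Subgroup G} (hA : normalClosure (A : Set G) = ⊤) {g : G} {U : Subgroup G}
    (h : cj g A ≤ U) : normalClosure (U : Set G) = ⊤ := by
  refine top_le_iff.1 (hA ▸ normalClosure_le_normal fun a ha => ?_)
  have hn : (normalClosure (U : Set G)).Normal := normalClosure_normal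
  have := hn.conj_mem _ (subset_normalClosure (h ⟨a, ha, rfl⟩)) g⁻¹
  simpa [mul_assoc] using this

end Conj

/-- The subgroups generated by their conjugates of `A`. -/
def overFam (A : Subgroup G) : Set (Subgroup G) := {H | H ≠ ⊤ ∧ ClosedOver A H}

theorem closedOver_sSup {A : Subgroup G} (hA : A ≠ ⊤) : ClosedOver A (sSup (overFam A)) := by
  refine ⟨le_sSup ⟨hA, closedOver_refl A⟩, fun N hAN _ hN => sSup_le fun H hH => ?_⟩
  refine le_trans (hH.2.2 (N ⊓ H) (le_inf hAN hH.2.1) inf_le_right fun x hx => ?_) inf_le_left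
  have hxN := mem_normalizer_iff.1 (hN (le_sSup (s := overFam A) hH hx))
  refine mem_normalizer_iff.2 fun y => ?_
  rw [mem_inf, mem_inf, hxN y]
  exact and_congr_right fun _ => by rw [mul_mem_cancel_right (inv_mem hx), mul_mem_cancel_left hx]

theorem closedOver_cj {A H : Subgroup G} (g : G) (h : ClosedOver A H) : ClosedOver (cj g A) (cj g H) := by
  refine ⟨cj_mono g h.1, fun N hAN hNH hHN => ?_⟩
  rw [← cj_cj_inv g N]
  refine cj_mono g (h.2 (cj g⁻¹ N) ?_ ?_ ?_)
  · rw [← cj_inv_cj g A]; exact cj_mono _ hAN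
  · rw [← cj_inv_cj g H]; exact cj_mono _ hNH
  · rw [← cj_inv_cj g H]
    exact (map_mono hHN).trans (le_normalizer_map _)

theorem normalizer_le_normalizer_sSup [Finite G] (A : Subgroup G) :
    normalizer (A : Set G) ≤ normalizer ((sSup (overFam A) : Subgroup G) : Set G) := by
  refine le_normalizer_of_forall fun x hx => ?_
  rw [cj, map_le_iff_le_comap]
  refine sSup_le fun H hH => ?_
  rw [← map_le_iff_le_comap]
  refine le_sSup (s := overFam A) (a := cj x H) ⟨fun e => hH.1 (cj_injective x (e.trans (cj_top x).symm)), ?_⟩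
  have h1 := closedOver_cj x hH.2
  rwa [show cj x A = A from mem_normalizer_iff_map_conj_eq.1 hx] at h1

/-- The core: under the hypothesis all maximal subgroups containing `A` coincide. -/
theorem eq_of_sSup_ne_top [Finite G] : ∀ (A : Subgroup G), normalClosure (A : Set G) = ⊤ → A ≠ ⊤ →
    sSup (overFam A) ≠ ⊤ → ∀ P Q : Subgroup G, IsCoatom P → A ≤ P → IsCoatom Q → A ≤ Q → P = Q := by
  intro A
  induction hn : Nat.card G - Nat.card A using Nat.strong_induction_on generalizing A with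
  | _ n ih =>
  intro hA hAt hY
  subst hn
  have ih' : ∀ U : Subgroup G, Nat.card A < Nat.card U → U ≠ ⊤ → normalClosure (U : Set G) = ⊤ →
      sSup (overFam U) ≠ ⊤ → ∀ P Q : Subgroup G, IsCoatom P → U ≤ P → IsCoatom Q → U ≤ Q → P = Q :=
    fun U hU hUt hUn hUY => ih _ (by have := card_le_card_group U; omega) U rfl hUn hUt hUY
  set Y := sSup (overFam A) with hYdef
  have hY' : ClosedOver A Y := closedOver_sSup hAt
  have hNY : normalizer (Y : Set G) ≠ ⊤ := fun ht => hY (by
    have := normalizer_eq_top_iff.1 ht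
    exact top_le_iff.1 (hA ▸ normalClosure_le_normal hY'.1))
  obtain ⟨P0, hP0, hNP0⟩ := (eq_top_or_exists_le_coatom _).resolve_left hNY
  have hYP0 : Y ≤ P0 := le_normalizer.trans hNP0
  have hNA : normalizer (A : Set G) ≤ P0 := (normalizer_le_normalizer_sSup A).trans hNP0
  have hsn0 : ∀ M : Subgroup G, IsCoatom M → A ≤ M → M ≠ P0 → (A.subgroupOf M).IsSubnormal := by
    intro M hM hAM hne
    set K := Cfsg.subnormalClosure (A.subgroupOf M)
    have hK : K.IsSubnormal := Cfsg.Lib.Local.subnormalClosure_isSubnormal _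
    set H := K.map M.subtype with hHdef
    have hAH : A ≤ H := fun a ha =>
      ⟨⟨a, hAM ha⟩, Cfsg.Lib.Local.le_subnormalClosure _ (mem_subgroupOf.2 ha), rfl⟩
    have hHM : H ≤ M := map_subtype_le _
    have hHK : H.subgroupOf M = K := by
      rw [hHdef, subgroupOf, comap_map_eq_self_of_injective M.subtype_injective]
    have hHc : ClosedOver A H := ⟨hAH, fun N hAN hNH hHN => by
      have h1 : ((N.subgroupOf M).subgroupOf K).Normal := by
        rw [normal_subgroupOf_iff_le_normalizer (fun x hx => hHK ▸ mem_subgroupOf.2 (hNH (mem_subgroupOf.1 hx)))]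
        intro x hx
        refine mem_normalizer_iff.2 fun y => ?_
        simp only [mem_subgroupOf, Subgroup.coe_mul, InvMemClass.coe_inv]
        exact mem_normalizer_iff.1 (hHN ⟨x, hx, rfl⟩) y
      have h2 : K ≤ N.subgroupOf M := Cfsg.Lib.Local.subnormalClosure_le (fun a ha => hAN ha)
        (IsSubnormal.step _ K (fun x hx => hHK ▸ mem_subgroupOf.2 (hNH (mem_subgroupOf.1 hx))) hK h1)
      rintro _ ⟨x, hx, rfl⟩
      exact h2 hx⟩
    have hHt : H ≠ ⊤ := fun e => hM.1 (top_le_iff.1 (e ▸ hHM))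
    have hHY : H ≤ Y := le_sSup (s := overFam A) ⟨hHt, hHc⟩
    by_cases hcard : Nat.card A < Nat.card H
    · refine absurd (ih' H hcard hHt (top_le_iff.1 (hA ▸ normalClosure_mono hAH)) ?_ M P0 hM hHM hP0
        (hHY.trans hYP0)) hne
      intro e
      refine hY (top_le_iff.1 (e ▸ sSup_le fun X hX => ?_))
      exact le_sSup (s := overFam A) ⟨hX.1, hHc.trans hX.2⟩
    · rw [eq_of_le_of_card_ge hAH (not_lt.1 hcard), hHK]
      exact hK
  -- labels of the conjugates
  have hwd : ∀ g h : G, cj g A = cj h A → cj g P0 = cj h P0 := by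
    intro g h e
    have h1 : h⁻¹ * g ∈ P0 := hNA (mem_normalizer_iff_map_conj_eq.2 (by
      show cj (h⁻¹ * g) A = A
      rw [← cj_cj, e, cj_inv_cj]))
    rw [show g = h * (h⁻¹ * g) by group, ← cj_cj, cj_eq_of_mem h1]
  let IsC : Subgroup G → Prop := fun C => ∃ g, cj g A = C
  classical
  let lab : Subgroup G → Subgroup G := fun C => if h : IsC C then cj h.choose P0 else ⊤
  have hlab : ∀ g, lab (cj g A) = cj g P0 := fun g => by
    have h : IsC (cj g A) := ⟨g, rfl⟩
    simp only [lab, dif_pos h]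
    exact hwd _ _ h.choose_spec
  have hlabcj : ∀ C, IsC C → ∀ x, IsC (cj x C) ∧ lab (cj x C) = cj x (lab C) := by
    rintro _ ⟨g, rfl⟩ x
    exact ⟨⟨x * g, (cj_cj x g A).symm⟩, by rw [cj_cj, hlab, hlab, cj_cj]⟩
  have hlabco : ∀ C, IsC C → IsCoatom (lab C) := by
    rintro _ ⟨g, rfl⟩; rw [hlab]; exact isCoatom_cj g hP0
  have hlabN : ∀ C, IsC C → normalizer (C : Set G) ≤ lab C := by
    rintro _ ⟨g, rfl⟩
    rw [hlab]
    intro x hx
    have h1 : g⁻¹ * x * g ∈ normalizer (A : Set G) := mem_normalizer_iff_map_conj_eq.2 (by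
      show cj (g⁻¹ * x * g) A = A
      have hx' : cj x (cj g A) = cj g A := mem_normalizer_iff_map_conj_eq.1 hx
      rw [← cj_cj, ← cj_cj, hx', cj_inv_cj])
    exact ⟨g⁻¹ * x * g, hNA h1, by simp [mul_assoc]⟩
  have hlabsn : ∀ C, IsC C → ∀ M : Subgroup G, IsCoatom M → C ≤ M → M ≠ lab C →
      (C.subgroupOf M).IsSubnormal := by
    rintro _ ⟨g, rfl⟩ M hM hCM hne
    refine isSubnormal_subgroupOf_conj g (hsn0 _ (isCoatom_cj g⁻¹ hM) ?_ fun e => hne ?_)
    · rw [← cj_inv_cj g A]; exact cj_mono _ hCM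
    · rw [hlab, ← e]; exact (cj_cj_inv g M).symm
  -- two conjugates in two maximal subgroups
  have hpair : ∀ C E, IsC C → IsC E → C ≠ E → ∀ P Q : Subgroup G, IsCoatom P → IsCoatom Q → P ≠ Q →
      C ≤ P → E ≤ P → C ≤ Q → E ≤ Q → E ≤ lab C ∧ C ≤ lab E ∧ lab C ≠ lab E := by
    intro C E hC hE hne P Q hP hQ hPQ hCP hEP hCQ hEQ
    set U := C ⊔ E with hU
    have hcardC : ∀ D, IsC D → Nat.card D = Nat.card A := by
      rintro _ ⟨g, rfl⟩; exact card_map_of_injective (MulAut.conj g).injective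
    have hcard : Nat.card A < Nat.card U := by
      rw [← hcardC C hC]
      refine lt_of_le_of_ne (card_le_of_le le_sup_left) fun e => hne ?_
      have hEC : E ≤ C := (eq_of_le_of_card_ge (le_sup_left (b := E)) e.ge).symm ▸ le_sup_right
      exact (eq_of_le_of_card_ge hEC (le_of_eq ((hcardC C hC).trans (hcardC E hE).symm))).symm
    have hUP : U ≤ P := sup_le hCP hEP
    have hUn : normalClosure (U : Set G) = ⊤ := by
      obtain ⟨g, rfl⟩ := hC
      exact normalClosure_cj hA le_sup_left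
    have hUY : sSup (overFam U) = ⊤ := not_not.1 fun h => hPQ
      (ih' U hcard (fun e => hP.1 (top_le_iff.1 (e ▸ hUP))) hUn h P Q hP hUP hQ (sup_le hCQ hEQ))
    by_contra hcon
    obtain ⟨R, hR, hUR, hRlab⟩ : ∃ R, IsCoatom R ∧ U ≤ R ∧
        ∀ K, (K = lab C ∨ K = lab E) → U ≤ K → K = R := by
      by_cases h1 : U ≤ lab C
      · refine ⟨lab C, hlabco C hC, h1, ?_⟩
        rintro K (rfl | rfl) hK
        · rfl
        · by_contra hne'
          exact hcon ⟨le_sup_right.trans h1, le_sup_left.trans hK, fun e => hne' e.symm⟩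
      · by_cases h2 : U ≤ lab E
        · refine ⟨lab E, hlabco E hE, h2, ?_⟩
          rintro K (rfl | rfl) hK
          · exact absurd hK h1
          · rfl
        · exact ⟨P, hP, hUP, by rintro K (rfl | rfl) hK <;> contradiction⟩
    refine hR.1 (top_le_iff.1 (hUY ▸ sSup_le fun X hX => ?_))
    obtain ⟨K, hK, hXK⟩ := (eq_top_or_exists_le_coatom X).resolve_left hX.1
    have hUK : U ≤ K := hX.2.1.trans hXK
    by_cases hKC : K = lab C
    · exact (hRlab K (Or.inl hKC) hUK) ▸ hXK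
    by_cases hKE : K = lab E
    · exact (hRlab K (Or.inr hKE) hUK) ▸ hXK
    have h1 := Cfsg.Lib.SubnormalJoin.isSubnormal_join (hlabsn C hC K hK (le_sup_left.trans hUK) hKC)
      (hlabsn E hE K hK (le_sup_right.trans hUK) hKE)
    rw [← subgroupOf_sup (le_sup_left.trans hUK) (le_sup_right.trans hUK), ← hU] at h1
    have h2 : (U.subgroupOf X).IsSubnormal := h1.comap (inclusion hXK)
    rw [hX.2.eq_of_isSubnormal h2]
    exact hUR
  -- conjugates with one label in another maximal subgroup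
  have hTP : ∀ C E, IsC C → IsC E → lab C = lab E → ∀ Q : Subgroup G, IsCoatom Q → Q ≠ lab C →
      C ≤ Q → E ≤ Q → C = E := by
    intro C E hC hE he Q hQ hne hCQ hEQ
    by_contra hCE
    exact (hpair C E hC hE hCE _ Q (hlabco C hC) hQ (Ne.symm hne) (le_normalizer.trans (hlabN C hC))
      (he ▸ le_normalizer.trans (hlabN E hE)) hCQ hEQ).2.2 he
  have hnorm : ∀ C E, IsC C → IsC E → C ≠ E → ∀ P Q : Subgroup G, IsCoatom P → IsCoatom Q → P ≠ Q →
      C ≤ P → E ≤ P → C ≤ Q → E ≤ Q → E ≤ normalizer (C : Set G) := by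
    intro C E hC hE hne P Q hP hQ hPQ hCP hEP hCQ hEQ x hx
    obtain ⟨h1, h2, h3⟩ := hpair C E hC hE hne P Q hP hQ hPQ hCP hEP hCQ hEQ
    refine mem_normalizer_iff_map_conj_eq.2 ?_
    obtain ⟨h4, h5⟩ := hlabcj C hC x
    rw [cj_eq_of_mem (h1 hx)] at h5
    have hxE : x ∈ lab E := le_normalizer.trans (hlabN E hE) hx
    refine (hTP C (cj x C) hC h4 h5.symm (lab E) (hlabco E hE) (Ne.symm h3) h2 ?_).symm
    exact (cj_mono x h2).trans (cj_eq_of_mem hxE).le
  -- the symmetric statement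
  have hside : ∀ C E, IsC C → IsC E → C ≠ E → E ≤ lab C → C ≤ lab E → lab C ≠ lab E →
      ∀ T : Set (Subgroup G), (∀ F, F ∈ T ↔ IsC F ∧ F ≤ lab C ∧ F ≤ lab E) →
      ∀ K : Subgroup G, IsCoatom K → normalizer ((sSup T : Subgroup G) : Set G) ≤ K → K = lab C := by
    intro C E hC hE hne hEC hCE hlne T hT K hK hNK
    set P := lab C with hPdef
    set P' := lab E with hP'def
    have hCP : C ≤ P := le_normalizer.trans (hlabN C hC)
    have hEP' : E ≤ P' := le_normalizer.trans (hlabN E hE)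
    set B := sSup T with hB
    set T1 := {F | F ∈ T ∧ F ≠ C} with hT1
    set S := sSup T1 with hS
    have hCT : C ∈ T := (hT C).2 ⟨hC, hCP, hCE⟩
    have hET : E ∈ T1 := ⟨(hT E).2 ⟨hE, hEC, hEP'⟩, Ne.symm hne⟩
    have hSP : S ≤ P := sSup_le fun F hF => ((hT F).1 hF.1).2.1
    have hSP' : S ≤ P' := sSup_le fun F hF => ((hT F).1 hF.1).2.2
    have hlabT : ∀ F ∈ T1, lab F ≠ P := fun F hF e =>
      hF.2 (hTP C F hC ((hT F).1 hF.1).1 e.symm P' (hlabco E hE) (Ne.symm hlne) hCE ((hT F).1 hF.1).2.2).symm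
    have hSsn : (S.subgroupOf P).IsSubnormal := by
      suffices h : ∀ s : Set (Subgroup G), s ⊆ T1 → ((sSup s).subgroupOf P).IsSubnormal from h T1 subset_rfl
      intro s hs
      refine s.toFinite.induction_on_subset (motive := fun t _ => ((sSup t).subgroupOf P).IsSubnormal) s ?_ ?_
      · rw [sSup_empty, bot_subgroupOf]; exact IsSubnormal.bot
      · intro F t hF ht _ ihF
        have hFP : F ≤ P := ((hT F).1 (hs hF).1).2.1
        rw [sSup_insert, subgroupOf_sup hFP (sSup_le fun F' hF' => ((hT F').1 (hs (ht hF')).1).2.1)]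
        exact Cfsg.Lib.SubnormalJoin.isSubnormal_join
          (hlabsn F ((hT F).1 (hs hF).1).1 P (hlabco C hC) hFP (hlabT F (hs hF)).symm) ihF
    have hTcj : ∀ u ∈ P, cj u S = S → ∀ F ∈ T1, cj u F ∈ T1 := by
      intro u hu huS F hF
      obtain ⟨h1, h2⟩ := hlabcj F ((hT F).1 hF.1).1 u
      have hle : cj u F ≤ S := huS ▸ cj_mono u (le_sSup (s := T1) hF)
      refine ⟨(hT _).2 ⟨h1, hle.trans hSP, hle.trans hSP'⟩, fun e => hlabT F hF ?_⟩
      refine cj_injective u ?_
      rw [cj_eq_of_mem hu, ← h2, e]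
    have hstab : ∀ u ∈ P, cj u S = S → cj u B ≤ B ∧ cj u C = C := by
      intro u hu huS
      have huS' : cj u⁻¹ S = S := by conv_lhs => rw [← huS, cj_inv_cj]
      have hCu : cj u C = C := by
        obtain ⟨h1, h2⟩ := hlabcj C hC u
        rw [← hPdef, cj_eq_of_mem hu] at h2
        obtain ⟨hF, hFC⟩ := hTcj u⁻¹ (inv_mem hu) huS' E hET
        obtain ⟨hF1, hF2, hF3⟩ := (hT _).1 hF
        have h3 : C ≤ normalizer ((cj u⁻¹ E : Subgroup G) : Set G) :=
          hnorm _ C hF1 hC hFC P P' (hlabco C hC) (hlabco E hE) hlne hF2 hCP hF3 hCE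
        have h4 : cj u C ≤ P' := by
          refine le_trans ?_ (hlabN E hE)
          refine (cj_mono u h3).trans ((le_normalizer_map _).trans (le_of_eq ?_))
          show normalizer ((cj u (cj u⁻¹ E) : Subgroup G) : Set G) = _
          rw [cj_cj_inv]
        exact (hTP C _ hC h1 h2.symm P' (hlabco E hE) (Ne.symm hlne) hCE h4).symm
      refine ⟨?_, hCu⟩
      rw [cj, map_le_iff_le_comap]
      refine sSup_le fun F hF => ?_
      rw [← map_le_iff_le_comap]
      refine le_sSup (s := T) (a := cj u F) ?_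
      by_cases hFC : F = C
      · rw [hFC, hCu]; exact hCT
      · exact (hTcj u hu huS F ⟨hF, hFC⟩).1
    have hnormS : ∀ u ∈ P, u ∈ normalizer (S : Set G) → u ∈ K := by
      intro u hu huS
      refine hNK (mem_normalizer_iff_map_conj_eq.2 (eq_of_le_of_card_ge
        (hstab u hu (mem_normalizer_iff_map_conj_eq.1 huS)).1
        (card_map_of_injective (MulAut.conj u).injective).ge))
    by_cases hSn : (S.subgroupOf P).Normal
    · have hPK : P ≤ K := fun u hu => hnormS u hu ((normal_subgroupOf_iff_le_normalizer hSP).1 hSn hu)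
      exact ((hlabco C hC).le_iff.1 hPK).resolve_left hK.1
    obtain ⟨x, hx1, hx2⟩ := exists_conj_le_normalizer hSsn hSn
    have hcjS : ∀ F ≤ S, ∀ y ∈ cj (x : G) F, y ∈ P ∧ y ∈ normalizer (S : Set G) := by
      rintro F hFS _ ⟨z, hz, rfl⟩
      have hzP : z ∈ P := hSP (hFS hz)
      have h1 : x * (⟨z, hzP⟩ : P) * x⁻¹ ∈ normalizer ((S.subgroupOf P : Subgroup P) : Set P) :=
        hx2 ⟨⟨z, hzP⟩, hFS hz, rfl⟩
      refine ⟨mul_mem (mul_mem x.2 hzP) (inv_mem x.2), mem_normalizer_iff_map_conj_eq.2 ?_⟩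
      refine eq_of_le_of_card_ge ?_ (card_map_of_injective (MulAut.conj _).injective).ge
      rintro _ ⟨s, hs, rfl⟩
      exact (mem_normalizer_iff.1 h1 ⟨s, hSP hs⟩).1 hs
    obtain ⟨F, hF, hFS⟩ : ∃ F ∈ T1, ¬ cj (x : G) F ≤ S := by
      by_contra hall
      push Not at hall
      refine hx1 (eq_of_le_of_card_ge ?_ (card_map_of_injective (MulAut.conj x).injective).ge)
      rintro _ ⟨z, hz, rfl⟩
      have h1 : cj (x : G) S ≤ S := by
        rw [cj, map_le_iff_le_comap]
        exact sSup_le fun F hF => map_le_iff_le_comap.1 (hall F hF)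
      exact mem_subgroupOf.2 (h1 ⟨z, hz, rfl⟩)
    obtain ⟨hF1, hlabF⟩ := hlabcj F ((hT F).1 hF.1).1 x
    set F' := cj (x : G) F
    have hF'P : F' ≤ P := fun y hy => (hcjS F (le_sSup (s := T1) hF) y hy).1
    have hF'C : F' ≠ C := fun e => hlabT F hF (cj_injective (x : G) (by
      rw [← hlabF, e, cj_eq_of_mem x.2]))
    have hF'K : F' ≤ K := fun y hy =>
      hnormS y (hF'P hy) (hcjS F (le_sSup (s := T1) hF) y hy).2
    by_contra hKP
    have hBK : B ≤ K := le_normalizer.trans hNK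
    have hF'P' : F' ≤ P' := by
      by_cases hF'E : F' = E
      · exact hF'E ▸ hEP'
      · exact (hpair E F' hE hF1 (Ne.symm hF'E) P K (hlabco C hC) hK (Ne.symm hKP) hEC hF'P
          ((le_sSup (s := T) hET.1).trans hBK) hF'K).1
    exact hFS (le_sSup (s := T1) ⟨(hT _).2 ⟨hF1, hF'P, hF'P'⟩, hF'C⟩)
  suffices huniq : ∀ Q, IsCoatom Q → A ≤ Q → Q = P0 from
    fun P Q hP hAP hQ hAQ => (huniq P hP hAP).trans (huniq Q hQ hAQ).symm
  intro Q hQ hAQ
  by_contra hne
  have hAn : ¬ (A.subgroupOf Q).Normal := fun hnrm =>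
    hne ((hQ.le_iff.1 (((normal_subgroupOf_iff_le_normalizer hAQ).1 hnrm).trans hNA)).resolve_left hP0.1).symm
  obtain ⟨x, hx1, hx2⟩ := exists_conj_le_normalizer (hsn0 Q hQ hAQ hne) hAn
  set C := cj (x : G) A with hC
  have hCQ : C ≤ Q := (cj_mono _ hAQ).trans (cj_eq_of_mem x.2).le
  have hCP0 : C ≤ P0 := by
    rintro _ ⟨a, ha, rfl⟩
    have h1 : x * (⟨a, hAQ ha⟩ : Q) * x⁻¹ ∈ normalizer ((A.subgroupOf Q : Subgroup Q) : Set Q) :=
      hx2 ⟨⟨a, hAQ ha⟩, ha, rfl⟩
    refine hNA (mem_normalizer_iff_map_conj_eq.2 (eq_of_le_of_card_ge ?_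
      (card_map_of_injective (MulAut.conj _).injective).ge))
    rintro _ ⟨s, hs, rfl⟩
    exact (mem_normalizer_iff.1 h1 ⟨s, hAQ hs⟩).1 hs
  have hCA : A ≠ C := fun e => hx1 (eq_of_le_of_card_ge (by
    rintro _ ⟨a, ha, rfl⟩
    exact mem_subgroupOf.2 (e ▸ (⟨(a : G), ha, rfl⟩ : (x : G) * a * (x : G)⁻¹ ∈ cj (x : G) A)))
    (card_map_of_injective (MulAut.conj x).injective).ge)
  have hA1 : IsC A := ⟨1, cj_one A⟩
  have hC1 : IsC C := ⟨x, rfl⟩
  have hlabA : lab A = P0 := by
    conv_lhs => rw [← cj_one A]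
    rw [hlab, cj_one]
  obtain ⟨h1, h2, h3⟩ := hpair A C hA1 hC1 hCA P0 Q hP0 hQ (Ne.symm hne) (le_normalizer.trans hNA) hCP0 hAQ hCQ
  set T : Set (Subgroup G) := {F | IsC F ∧ F ≤ lab A ∧ F ≤ lab C} with hT
  have hNT : normalizer ((sSup T : Subgroup G) : Set G) ≠ ⊤ := fun ht => by
    have := normalizer_eq_top_iff.1 ht
    have hAT : A ≤ sSup T := le_sSup (s := T) ⟨hA1, le_normalizer.trans (hlabN A hA1), h2⟩
    refine (hlabco A hA1).1 (top_le_iff.1 (hA ▸ (normalClosure_le_normal hAT).trans ?_))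
    exact sSup_le fun F hF => hF.2.1
  obtain ⟨K, hK, hNK⟩ := (eq_top_or_exists_le_coatom _).resolve_left hNT
  have e1 := hside A C hA1 hC1 hCA h1 h2 h3 T (fun F => Iff.rfl) K hK hNK
  have e2 := hside C A hC1 hA1 (Ne.symm hCA) h2 h1 (Ne.symm h3) T
    (fun F => ⟨fun h => ⟨h.1, h.2.2, h.2.1⟩, fun h => ⟨h.1, h.2.2, h.2.1⟩⟩) K hK hNK
  exact h3 (e1.symm.trans e2)

/-- Strengthened zipper lemma. -/
theorem existsUnique_of_sSup_ne_top [Finite G] (A : Subgroup G) (hA : normalClosure (A : Set G) = ⊤)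
    (hAt : A ≠ ⊤) (hY : sSup (overFam A) ≠ ⊤) : ∃! M : Subgroup G, IsCoatom M ∧ A ≤ M := by
  obtain ⟨M, hM, hAM⟩ := (eq_top_or_exists_le_coatom A).resolve_left hAt
  exact ⟨M, ⟨hM, hAM⟩, fun K hK => eq_of_sSup_ne_top A hA hAt hY K M hK.1 hK.2 hM hAM⟩

theorem overFam_eq (A : Subgroup G) : overFam A = {H : Subgroup G | A ≤ H ∧ H ≠ ⊤ ∧
    normalClosure ((A.subgroupOf H : Subgroup H) : Set H) = ⊤} := by
  ext H
  simp only [overFam, Set.mem_setOf_eq, closedOver_iff]
  tauto

end Cfsg.Lib.Subnormal
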